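import Mathlib

set_option autoImplicit false
set_option linter.unusedVariables false

namespace Cfsg.Agent.Lib.Helper5.F7.H28.FrCArith

variable {F : Type*} [Field F]

/-- the special values, as an explicit disjunction (the body of `FrC.Sp`) -/
def SpD (t : F) : Prop := t = 0 ∨ t = 1 ∨ 4 * t = 1 ∨ 2 * t = 1 ∨ 16 * t ^ 2 - 12 * t + 1 = 0

/-- A1: two special numbers with sum 1 -/
theorem spD_add_eq_one (h2 : (2:F) ≠ 0) (h3 : (3:F) ≠ 0) (h5 : (5:F) ≠ 0) {x y : F}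
    (hx : SpD x) (hy : SpD y) (hxy : x + y = 1) :
    (x = 0 ∧ y = 1) ∨ (x = 1 ∧ y = 0) ∨ (2 * x = 1 ∧ 2 * y = 1) := by
  unfold SpD at hx hy
  rcases hx with hx | hx | hx | hx | hx <;> rcases hy with hy | hy | hy | hy | hy <;> grind

/-- `1/16` is not special -/
theorem not_spD_sixteenth (h2 : (2:F) ≠ 0) (h3 : (3:F) ≠ 0) (h5 : (5:F) ≠ 0) (h7 : (7:F) ≠ 0) {t : F}
    (ht : 16 * t = 1) : ¬ SpD t := by
  have h15 : (15:F) ≠ 0 := by
    have : (15:F) = 3 * 5 := by norm_num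
    rw [this]; exact mul_ne_zero h3 h5
  unfold SpD
  rintro (h | h | h | h | h) <;> grind

/-- the support-2 arithmetic -/
theorem arith_two (h2 : (2:F) ≠ 0) (h3 : (3:F) ≠ 0) (h5 : (5:F) ≠ 0) {u v : F} (hu : u ≠ 0) (hv : v ≠ 0)
    (h1 : u ^ 2 + v ^ 2 = 1) (hX : SpD ((u * v + v * u) ^ 2)) (hY : SpD ((u * u - v * v) ^ 2))
    (hU : SpD (u ^ 2)) : 2 * u ^ 2 = 1 ∧ 2 * v ^ 2 = 1 := by
  have hsum : (u * v + v * u) ^ 2 + (u * u - v * v) ^ 2 = 1 := by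
    have : (u * v + v * u) ^ 2 + (u * u - v * v) ^ 2 = (u ^ 2 + v ^ 2) ^ 2 := by ring
    rw [this, h1, one_pow]
  rcases spD_add_eq_one h2 h3 h5 hX hY hsum with ⟨hx, hy⟩ | ⟨hx, hy⟩ | ⟨hx, hy⟩
  · exfalso
    have : u * v + v * u = 0 := by simpa using hx
    have : 2 * (u * v) = 0 := by linear_combination this
    rcases mul_eq_zero.1 this with h | h
    · exact h2 h
    · rcases mul_eq_zero.1 h with h | h
      · exact hu h
      · exact hv h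
  · have : u * u - v * v = 0 := by simpa using hy
    constructor
    · linear_combination h1 + this
    · linear_combination h1 - this
  · exfalso
    unfold SpD at hU
    rcases hU with h | h | h | h | h
    · exact hu (by simpa using h)
    · apply hv
      have : v ^ 2 = 0 := by linear_combination h1 - h
      simpa using this
    · grind
    · grind
    · grind

/-- the types of a non-zero, non-one special value -/
def Ty (t : F) : Prop := 4 * t = 1 ∨ 2 * t = 1 ∨ 16 * t ^ 2 - 12 * t + 1 = 0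

theorem enum3 (h2 : (2:F) ≠ 0) (h3 : (3:F) ≠ 0) (h5 : (5:F) ≠ 0) {x y z : F} (hsum : x + y + z = 1)
    (hx : Ty x) (hy : Ty y) (hz : Ty z) :
    (4 * x = 1 ∧ 4 * y = 1 ∧ 2 * z = 1) ∨ (4 * x = 1 ∧ 2 * y = 1 ∧ 4 * z = 1) ∨
    (2 * x = 1 ∧ 4 * y = 1 ∧ 4 * z = 1) ∨
    (4 * x = 1 ∧ 16 * (y * z) = 1) ∨ (4 * y = 1 ∧ 16 * (x * z) = 1) ∨ (4 * z = 1 ∧ 16 * (x * y) = 1) ∨
    (3 * x = 1 ∧ 3 * y = 1 ∧ 3 * z = 1 ∧ (11:F) = 0) := by
  unfold Ty at hx hy hz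
  rcases hx with hx | hx | hx <;> rcases hy with hy | hy | hy <;> rcases hz with hz | hz | hz <;> grind


/-- the abstract closure properties of the roots in a coordinate 3-space -/
structure Sys3 (P : F → F → F → Prop) : Prop where
  unit : ∀ u v w, P u v w → u ^ 2 + v ^ 2 + w ^ 2 = 1
  e1 : P 1 0 0
  neg1 : ∀ u v w, P u v w → P (-u) v w
  sw12 : ∀ u v w, P u v w → P v u w
  sw23 : ∀ u v w, P u v w → P u w v
  refl : ∀ u v w u' v' w', P u v w → P u' v' w' →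
    P (u - 2 * (u * u' + v * v' + w * w') * u') (v - 2 * (u * u' + v * v' + w * w') * v')
      (w - 2 * (u * u' + v * v' + w * w') * w')
  sm : ∀ u v w u' v' w', P u v w → P u' v' w' → SpD ((u * u' + v * v' + w * w') ^ 2) ∧
    ((u * u' + v * v' + w * w') ^ 2 = 1 → (u' = u ∧ v' = v ∧ w' = w) ∨ (u' = -u ∧ v' = -v ∧ w' = -w))

variable {P : F → F → F → Prop}

theorem Sys3.e2 (hS : Sys3 P) : P 0 1 0 := hS.sw12 _ _ _ hS.e1
theorem Sys3.e3 (hS : Sys3 P) : P 0 0 1 := hS.sw23 _ _ _ hS.e2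
theorem Sys3.neg2 (hS : Sys3 P) {u v w : F} (h : P u v w) : P u (-v) w :=
  hS.sw12 _ _ _ (hS.neg1 _ _ _ (hS.sw12 _ _ _ h))
theorem Sys3.neg3 (hS : Sys3 P) {u v w : F} (h : P u v w) : P u v (-w) :=
  hS.sw23 _ _ _ (hS.neg2 (hS.sw23 _ _ _ h))

theorem Sys3.sp1 (hS : Sys3 P) {u v w : F} (h : P u v w) : SpD (u ^ 2) := by
  have := (hS.sm u v w 1 0 0 h hS.e1).1
  have e : u * 1 + v * 0 + w * 0 = u := by ring
  rwa [e] at this
theorem Sys3.sp2 (hS : Sys3 P) {u v w : F} (h : P u v w) : SpD (v ^ 2) := hS.sp1 (hS.sw12 _ _ _ h)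
theorem Sys3.sp3 (hS : Sys3 P) {u v w : F} (h : P u v w) : SpD (w ^ 2) := hS.sp2 (hS.sw23 _ _ _ h)

theorem Sys3.ne_one1 (hS : Sys3 P) {u v w : F} (h : P u v w) (hv : v ≠ 0) : u ^ 2 ≠ 1 := by
  intro h1
  have := (hS.sm u v w 1 0 0 h hS.e1).2
  have e : u * 1 + v * 0 + w * 0 = u := by ring
  rw [e] at this
  rcases this h1 with ⟨_, h0, _⟩ | ⟨_, h0, _⟩
  · exact hv h0.symm
  · exact hv (by simpa using h0.symm)

theorem Sys3.ty1 (hS : Sys3 P) {u v w : F} (h : P u v w) (hu : u ≠ 0) (hv : v ≠ 0) : Ty (u ^ 2) := by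
  have h1 := hS.sp1 h
  have h2 := hS.ne_one1 h hv
  unfold SpD at h1
  rcases h1 with h1 | h1 | h1
  · exact absurd (by simpa using h1) hu
  · exact absurd h1 h2
  · exact h1

/-- support 2 -/
theorem Sys3.two (hS : Sys3 P) (h2 : (2:F) ≠ 0) (h3 : (3:F) ≠ 0) (h5 : (5:F) ≠ 0) {u v : F}
    (h : P u v 0) (hu : u ≠ 0) (hv : v ≠ 0) : 2 * u ^ 2 = 1 ∧ 2 * v ^ 2 = 1 := by
  have h1 : u ^ 2 + v ^ 2 = 1 := by
    have := hS.unit _ _ _ h
    linear_combination this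
  have hX := (hS.sm u v 0 v u 0 h (hS.sw12 _ _ _ h)).1
  have hY := (hS.sm u v 0 u (-v) 0 h (hS.neg2 h)).1
  have eX : u * v + v * u + 0 * 0 = u * v + v * u := by ring
  have eY : u * u + v * -v + 0 * 0 = u * u - v * v := by ring
  rw [eX] at hX
  rw [eY] at hY
  exact arith_two h2 h3 h5 hu hv h1 hX hY (hS.sp1 h)

/-- kill `(1/4, 1/4, 1/2)` -/
theorem Sys3.killA (hS : Sys3 P) (h2 : (2:F) ≠ 0) (h3 : (3:F) ≠ 0) (h5 : (5:F) ≠ 0) (h7 : (7:F) ≠ 0)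
    {a b r : F} (h : P a b r) (ha : 4 * a ^ 2 = 1) (hb : 4 * b ^ 2 = 1) (hr : 2 * r ^ 2 = 1) : False := by
  have hy := hS.refl a b r a r b h (hS.sw23 _ _ _ h)
  have h3' := hS.sp3 hy
  refine not_spD_sixteenth h2 h3 h5 h7 ?_ h3'
  have e : r - 2 * (a * a + b * r + r * b) * b = -2 * a ^ 2 * b := by linear_combination (-r) * hb
  rw [e]
  have : (4 * a ^ 2) ^ 2 * (4 * b ^ 2) = 1 := by rw [ha, hb]; norm_num
  linear_combination this

/-- kill `(1/4, α, α')` -/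
theorem Sys3.killB (hS : Sys3 P) (h2 : (2:F) ≠ 0) (h3 : (3:F) ≠ 0) (h5 : (5:F) ≠ 0) (h7 : (7:F) ≠ 0)
    {a b b' : F} (h : P a b b') (ha : 4 * a ^ 2 = 1) (hbb : 16 * (b ^ 2 * b' ^ 2) = 1) : False := by
  have hcases : 4 * (b * b') = 1 ∨ 4 * (b * b') = -1 := by
    have : (4 * (b * b') - 1) * (4 * (b * b') + 1) = 0 := by linear_combination hbb
    rcases mul_eq_zero.1 this with h | h
    · left; linear_combination h
    · right; linear_combination h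
  rcases hcases with hc | hc
  · -- x'' = (a, -b', -b)
    have h' := hS.neg3 (hS.neg2 (hS.sw23 _ _ _ h))
    have hsp := (hS.sm a b b' a (-b') (-b) h h').1
    refine not_spD_sixteenth h2 h3 h5 h7 ?_ hsp
    have e : a * a + b * -b' + b' * -b = -(1 / 4 : F) := by
      have h4 : (4:F) ≠ 0 := by
        have : (4:F) = 2 * 2 := by norm_num
        rw [this]; exact mul_ne_zero h2 h2
      field_simp
      linear_combination ha - 2 * hc
    rw [e]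
    have h4 : (4:F) ≠ 0 := by
      have : (4:F) = 2 * 2 := by norm_num
      rw [this]; exact mul_ne_zero h2 h2
    field_simp
    norm_num
  · have h' := hS.sw23 _ _ _ h
    have hsp := (hS.sm a b b' a b' b h h').1
    refine not_spD_sixteenth h2 h3 h5 h7 ?_ hsp
    have h4 : (4:F) ≠ 0 := by
      have : (4:F) = 2 * 2 := by norm_num
      rw [this]; exact mul_ne_zero h2 h2
    have e : a * a + b * b' + b' * b = -(1 / 4 : F) := by
      field_simp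
      linear_combination ha + 2 * hc
    rw [e]
    field_simp
    norm_num

/-- kill `(1/3, 1/3, 1/3)`, `p = 11` -/
theorem Sys3.killC (hS : Sys3 P) (h2 : (2:F) ≠ 0) (h3 : (3:F) ≠ 0) (h5 : (5:F) ≠ 0) (h7 : (7:F) ≠ 0)
    {a b c : F} (h : P a b c) (ha : 3 * a ^ 2 = 1) (hb : 3 * b ^ 2 = 1) (h11 : (11:F) = 0) : False := by
  have hy := hS.refl 1 0 0 a b c hS.e1 h
  have hsp := hS.sp2 hy
  have e : (0 - 2 * (1 * a + 0 * b + 0 * c) * b) ^ 2 = 4 * a ^ 2 * b ^ 2 := by ring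
  rw [e] at hsp
  unfold SpD at hsp
  rcases hsp with h | h | h | h | h <;> grind

/-- support 3 -/
theorem Sys3.three (hS : Sys3 P) (h2 : (2:F) ≠ 0) (h3 : (3:F) ≠ 0) (h5 : (5:F) ≠ 0) (h7 : (7:F) ≠ 0)
    {u v w : F} (h : P u v w) (hu : u ≠ 0) (hv : v ≠ 0) (hw : w ≠ 0) : False := by
  have t1 : Ty (u ^ 2) := hS.ty1 h hu hv
  have t2 : Ty (v ^ 2) := hS.ty1 (hS.sw12 _ _ _ h) hv hu
  have t3 : Ty (w ^ 2) := hS.ty1 (hS.sw12 _ _ _ (hS.sw23 _ _ _ h)) hw hu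
  rcases enum3 h2 h3 h5 (hS.unit _ _ _ h) t1 t2 t3 with
    ⟨a, b, c⟩ | ⟨a, b, c⟩ | ⟨a, b, c⟩ | ⟨a, b⟩ | ⟨a, b⟩ | ⟨a, b⟩ | ⟨a, b, c, d⟩
  · exact hS.killA h2 h3 h5 h7 h a b c
  · exact hS.killA h2 h3 h5 h7 (hS.sw23 _ _ _ h) a c b
  · exact hS.killA h2 h3 h5 h7 (hS.sw23 _ _ _ (hS.sw12 _ _ _ h)) b c a
  · exact hS.killB h2 h3 h5 h7 h a b
  · exact hS.killB h2 h3 h5 h7 (hS.sw12 _ _ _ h) a b
  · exact hS.killB h2 h3 h5 h7 (hS.sw12 _ _ _ (hS.sw23 _ _ _ h)) a b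
  · exact hS.killC h2 h3 h5 h7 h a b d

/-- the 3-dimensional `B`-type -/
def B3 (u v w : F) : Prop :=
  (v = 0 ∧ w = 0 ∧ u ^ 2 = 1) ∨ (u = 0 ∧ w = 0 ∧ v ^ 2 = 1) ∨ (u = 0 ∧ v = 0 ∧ w ^ 2 = 1) ∨
  (w = 0 ∧ 2 * u ^ 2 = 1 ∧ 2 * v ^ 2 = 1) ∨ (v = 0 ∧ 2 * u ^ 2 = 1 ∧ 2 * w ^ 2 = 1) ∨
  (u = 0 ∧ 2 * v ^ 2 = 1 ∧ 2 * w ^ 2 = 1)

theorem Sys3.allB (hS : Sys3 P) (h2 : (2:F) ≠ 0) (h3 : (3:F) ≠ 0) (h5 : (5:F) ≠ 0) (h7 : (7:F) ≠ 0)
    {u v w : F} (h : P u v w) : B3 u v w := by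
  have h1 := hS.unit _ _ _ h
  by_cases hu : u = 0 <;> by_cases hv : v = 0 <;> by_cases hw : w = 0
  · exfalso; rw [hu, hv, hw] at h1; norm_num at h1
  · right; right; left
    refine ⟨hu, hv, ?_⟩
    rw [hu, hv] at h1; linear_combination h1
  · right; left
    refine ⟨hu, hw, ?_⟩
    rw [hu, hw] at h1; linear_combination h1
  · right; right; right; right; right
    subst hu
    have := hS.two h2 h3 h5 (hS.sw23 _ _ _ (hS.sw12 _ _ _ h)) hv hw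
    exact ⟨rfl, this.1, this.2⟩
  · left
    refine ⟨hv, hw, ?_⟩
    rw [hv, hw] at h1; linear_combination h1
  · right; right; right; right; left
    subst hv
    have := hS.two h2 h3 h5 (hS.sw23 _ _ _ h) hu hw
    exact ⟨rfl, this.1, this.2⟩
  · right; right; right; left
    subst hw
    have := hS.two h2 h3 h5 h hu hv
    exact ⟨rfl, this.1, this.2⟩
  · exact (hS.three h2 h3 h5 h7 h hu hv hw).elim

end Cfsg.Agent.Lib.Helper5.F7.H28.FrCArith
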